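import Groth.Agent.ResProp.EF.K634.DiffBC

/-!
# Base change lemmas (S16912, node OPS-BC)
-/

set_option autoImplicit false

open TensorProduct

namespace Groth.Agent.ResProp.EF.K634

section Push

variable {R R' P P' : Type*} [CommRing R] [CommRing R'] [CommRing P] [CommRing P']
  [Algebra R R'] [Algebra R P] [Algebra R P'] [Algebra R' P'] [Algebra P P']
  [IsScalarTower R R' P'] [IsScalarTower R P P'] [Algebra.IsPushout R R' P P']
  {N N' : Type*} [AddCommGroup N] [Module R N] [Module P N] [IsScalarTower R P N]
  [AddCommGroup N'] [Module R N'] [Module R' N'] [Module P N'] [Module P' N']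
  [IsScalarTower R R' N'] [IsScalarTower R P N'] [IsScalarTower P P' N'] [IsScalarTower R' P' N']

/-- base change along `P → P'` and along `R → R'` is the same -/
theorem isBaseChange_iff_restrict (κ : N →ₗ[P] N') :
    IsBaseChange P' κ ↔ IsBaseChange R' (κ.restrictScalars R) := by
  let e := Algebra.IsPushout.cancelBaseChange R R' P P' N
  constructor
  · intro h
    refine IsBaseChange.of_equiv (e.symm ≪≫ₗ h.equiv.restrictScalars R') fun x => ?_
    simp only [LinearEquiv.trans_apply, LinearEquiv.restrictScalars_apply]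
    rw [Algebra.IsPushout.cancelBaseChange_symm_tmul]
    simp
  · intro h
    have hb : Function.Bijective (κ.liftBaseChange P' : P' ⊗[P] N →ₗ[P'] N') := by
      have h2 : Function.Bijective (h.equiv ∘ e) := h.equiv.bijective.comp e.bijective
      have : (h.equiv ∘ e : P' ⊗[P] N → N') = (κ.liftBaseChange P' : P' ⊗[P] N →ₗ[P'] N') := by
        have key : (h.equiv.toLinearMap ∘ₗ e.toLinearMap : P' ⊗[P] N →ₗ[R'] N')
            = (κ.liftBaseChange P').restrictScalars R' := by
          apply LinearMap.ext
          intro z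
          obtain ⟨z, rfl⟩ := e.symm.surjective z
          induction z with
          | zero => simp
          | tmul r n =>
            simp only [LinearMap.comp_apply, LinearEquiv.coe_coe, LinearEquiv.apply_symm_apply,
              LinearMap.restrictScalars_apply]
            rw [Algebra.IsPushout.cancelBaseChange_symm_tmul]
            simp
          | add a b ha hb => rw [map_add, map_add, map_add, ha, hb]
        exact congrArg DFunLike.coe key
      rwa [this] at h2
    refine IsBaseChange.of_equiv (LinearEquiv.ofBijective _ hb) fun x => ?_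
    simp

end Push

section Gen

variable {P P' : Type*} [CommRing P] [CommRing P'] [Algebra P P']

/-- quotients of base changes -/
theorem isBaseChange_quot {N N' : Type*} [AddCommGroup N] [Module P N] [AddCommGroup N'] [Module P N']
    [Module P' N'] [IsScalarTower P P' N'] {κ : N →ₗ[P] N'} (hκ : IsBaseChange P' κ)
    (B : Submodule P N) (B' : Submodule P' N') (hB' : B' = Submodule.span P' (κ '' B))
    (h : B ≤ LinearMap.ker ((B'.mkQ.restrictScalars P) ∘ₗ κ)) :
    IsBaseChange P' (B.liftQ ((B'.mkQ.restrictScalars P) ∘ₗ κ) h) := by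
  let f : (B →₀ P) →ₗ[P] N := Finsupp.linearCombination P (Subtype.val : B → N)
  let f' : (B →₀ P') →ₗ[P'] N' := Finsupp.linearCombination P' (fun b : B => κ b)
  refine IsBaseChange.of_right_exact P' (f := f) (g := B.mkQ) (f' := f') (g' := B'.mkQ)
    (Finsupp.mapRange.linearMap (Algebra.linearMap P P')) κ _ ?_ ?_
    (IsBaseChange.finsuppPow _ (IsBaseChange.linearMap P P')) hκ ?_ ?_ ?_ ?_
  · ext b
    simp [f, f']
  · ext n; simp
  · rw [LinearMap.exact_iff, Submodule.ker_mkQ, Finsupp.range_linearCombination]
    simp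
  · exact B.mkQ_surjective
  · rw [LinearMap.exact_iff, Submodule.ker_mkQ, Finsupp.range_linearCombination, hB']
    congr 1
    ext n
    simp [Set.range, Set.image]
  · exact B'.mkQ_surjective

/-- postcomposition -/
def post {N N' : Type*} [AddCommGroup N] [Module P N] [AddCommGroup N'] [Module P N']
    (Q : Type*) [AddCommGroup Q] [Module P Q] (κ : N →ₗ[P] N') : (Q →ₗ[P] N) →ₗ[P] (Q →ₗ[P] N') where
  toFun φ := κ ∘ₗ φ
  map_add' φ ψ := by ext; simp
  map_smul' a φ := by ext; simp

@[simp] theorem post_apply {N N' : Type*} [AddCommGroup N] [Module P N] [AddCommGroup N'] [Module P N']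
    (Q : Type*) [AddCommGroup Q] [Module P Q] (κ : N →ₗ[P] N') (φ : Q →ₗ[P] N) (q : Q) :
    post Q κ φ q = κ (φ q) := rfl

/-- precomposition, linear over the bigger ring -/
def pre (P' : Type*) [CommRing P'] [Algebra P P'] {N' : Type*} [AddCommGroup N'] [Module P N'] [Module P' N']
    [IsScalarTower P P' N']
    {Q₁ Q : Type*} [AddCommGroup Q] [Module P Q] [AddCommGroup Q₁] [Module P Q₁] (f : Q₁ →ₗ[P] Q) :
    (Q →ₗ[P] N') →ₗ[P'] (Q₁ →ₗ[P] N') where
  toFun φ := φ ∘ₗ f
  map_add' φ ψ := by ext; simp
  map_smul' a φ := by ext; simp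

@[simp] theorem pre_apply (P' : Type*) [CommRing P'] [Algebra P P'] {N' : Type*} [AddCommGroup N'] [Module P N']
    [Module P' N'] [IsScalarTower P P' N']
    {Q₁ Q : Type*} [AddCommGroup Q] [Module P Q] [AddCommGroup Q₁] [Module P Q₁] (f : Q₁ →ₗ[P] Q)
    (φ : Q →ₗ[P] N') (q : Q₁) : pre P' f φ q = φ (f q) := rfl

theorem isBaseChange_post_free {N N' : Type*} [AddCommGroup N] [Module P N] [AddCommGroup N'] [Module P N']
    [Module P' N'] [IsScalarTower P P' N'] {κ : N →ₗ[P] N'} (hκ : IsBaseChange P' κ) (n : ℕ) :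
    IsBaseChange P' (post (Fin n → P) κ) := by
  classical
  refine (IsBaseChange.iff_of_equiv_comm (LinearEquiv.piRing P N (Fin n) P).symm
    (LinearEquiv.piRing P N' (Fin n) P').symm ?_).mp (IsBaseChange.finitePow (Fin n) hκ)
  ext y i
  simp [LinearEquiv.piRing_symm_apply]

theorem isBaseChange_post [Module.Flat P P'] {N N' : Type*} [AddCommGroup N] [Module P N] [AddCommGroup N']
    [Module P N'] [Module P' N'] [IsScalarTower P P' N'] {κ : N →ₗ[P] N'} (hκ : IsBaseChange P' κ)
    (Q : Type*) [AddCommGroup Q] [Module P Q] [Module.FinitePresentation P Q] :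
    IsBaseChange P' (post Q κ) := by
  obtain ⟨n, m, f, g, hf, hfg⟩ := Module.FinitePresentation.exists_fin' P Q
  refine IsBaseChange.of_left_exact P' (f := pre P f) (g := pre P g) (f' := pre P' f) (g' := pre P' g)
    (post Q κ) (post _ κ) (post _ κ) ?_ ?_ (isBaseChange_post_free hκ n) (isBaseChange_post_free hκ m)
    ?_ ?_ ?_ ?_
  · ext φ q; simp
  · ext φ q; simp
  · exact LinearMap.exact_lcomp_of_exact_of_surjective N hfg hf
  · exact LinearMap.lcomp_injective_of_surjective f hf
  · exact LinearMap.exact_lcomp_of_exact_of_surjective N' hfg hf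
  · exact LinearMap.lcomp_injective_of_surjective f hf

end Gen

end Groth.Agent.ResProp.EF.K634
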