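import Mathlib.RingTheory.Flat.IsBaseChange
import Mathlib.RingTheory.TensorProduct.IsBaseChangePi
import Mathlib.RingTheory.TensorProduct.IsBaseChangeRightExact
import Mathlib.Algebra.Module.FinitePresentation
import Mathlib.RingTheory.FiniteType
import Mathlib.LinearAlgebra.TensorProduct.Tower
import Mathlib.Tactic

/-!
# Operators with nilpotent commutators and flat base change (S16912, node OPS-BC)

`R → P` of finite type, `K` a finite `P`-module, `N` a `P`-module.  `Cond c A B` is the `P`-submodule of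
`K →ₗ[R] N` of all `L` such that all `c`-fold commutators `[x₁, [.., [x_c, L]]]` (`xᵢ ∈ P`) map `A` into `B`.
The intersection of finitely many `Cond c A B`, one of them `Cond k ⊤ ⊥`, and of finitely many commutation
conditions `L ∘ α = β ∘ L` commutes with flat base change.
-/

set_option autoImplicit false

open TensorProduct

namespace Groth.Agent.ResProp.EF.K634

section Diff

variable {R P K N : Type*} [CommRing R] [CommRing P] [Algebra R P]
  [AddCommGroup K] [Module R K] [Module P K] [IsScalarTower R P K]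
  [AddCommGroup N] [Module R N] [Module P N] [IsScalarTower R P N]

/-- the commutator `[x, L]`, linear in `L` for the left action of `P` -/
def ad (x : P) : (K →ₗ[R] N) →ₗ[P] (K →ₗ[R] N) where
  toFun L := x • L - L ∘ₗ (Algebra.lsmul R R K x)
  map_add' L L' := by
    ext v; simp only [LinearMap.sub_apply, LinearMap.smul_apply, LinearMap.add_apply,
      LinearMap.comp_apply, smul_add]; abel
  map_smul' y L := by
    ext v; simp only [LinearMap.sub_apply, LinearMap.smul_apply, LinearMap.comp_apply,
      RingHom.id_apply, smul_sub, smul_smul, mul_comm x y]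

@[simp] theorem ad_apply (x : P) (L : K →ₗ[R] N) (v : K) : ad x L v = x • L v - L (x • v) := rfl

/-- all `c`-fold commutators of `L` map `A` into `B` -/
def Cond : (c : ℕ) → (A : Submodule P K) → (B : Submodule P N) → Submodule P (K →ₗ[R] N)
  | 0, A, B =>
    { carrier := {L | ∀ a ∈ A, L a ∈ B}
      add_mem' := fun h h' a ha => B.add_mem (h a ha) (h' a ha)
      zero_mem' := fun _ _ => B.zero_mem
      smul_mem' := fun y _ h a ha => B.smul_mem y (h a ha) }
  | c + 1, A, B => ⨅ x : P, (Cond c A B).comap (ad x)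

theorem mem_Cond_zero {A : Submodule P K} {B : Submodule P N} {L : K →ₗ[R] N} :
    L ∈ Cond 0 A B ↔ ∀ a ∈ A, L a ∈ B := Iff.rfl

theorem mem_Cond_succ {c : ℕ} {A : Submodule P K} {B : Submodule P N} {L : K →ₗ[R] N} :
    L ∈ Cond (c + 1) A B ↔ ∀ x : P, ad x L ∈ Cond c A B := by
  simp [Cond]

theorem Cond_le_succ (c : ℕ) (A : Submodule P K) (B : Submodule P N) :
    (Cond c A B : Submodule P (K →ₗ[R] N)) ≤ Cond (c + 1) A B := by
  induction c with
  | zero =>
    intro L hL
    rw [mem_Cond_succ]
    intro x a ha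
    rw [ad_apply]
    exact B.sub_mem (B.smul_mem x (hL a ha)) (hL _ (A.smul_mem x ha))
  | succ c ih =>
    intro L hL
    rw [mem_Cond_succ] at hL ⊢
    exact fun x => ih (hL x)

theorem Cond_mono_left {c c' : ℕ} (h : c ≤ c') (A : Submodule P K) (B : Submodule P N) :
    (Cond c A B : Submodule P (K →ₗ[R] N)) ≤ Cond c' A B := by
  induction h with
  | refl => exact le_rfl
  | step _ ih => exact ih.trans (Cond_le_succ _ _ _)

theorem Cond_anti (c : ℕ) {A A' : Submodule P K} {B B' : Submodule P N} (hA : A ≤ A') (hB : B' ≤ B) :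
    (Cond c A' B' : Submodule P (K →ₗ[R] N)) ≤ Cond c A B := by
  induction c with
  | zero => intro L hL a ha; exact hB (hL a (hA ha))
  | succ c ih =>
    intro L hL
    rw [mem_Cond_succ] at hL ⊢
    exact fun x => ih (hL x)

theorem Cond_bot (c : ℕ) (B : Submodule P N) :
    (Cond c ⊥ B : Submodule P (K →ₗ[R] N)) = ⊤ := by
  refine eq_top_iff.mpr (le_trans ?_ (Cond_mono_left (Nat.zero_le c) ⊥ B))
  intro L _ a ha
  rw [(Submodule.mem_bot P).mp ha, map_zero]
  exact B.zero_mem

/-- multiplication `1 ⊗ x - x ⊗ 1` on `P ⊗[R] K` -/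
noncomputable def del (x : P) : P ⊗[R] K →ₗ[P] P ⊗[R] K :=
  (Algebra.lsmul R R K x).baseChange P - x • LinearMap.id

theorem del_tmul (x y : P) (v : K) : del (R := R) x (y ⊗ₜ v) = y ⊗ₜ (x • v) - (x * y) ⊗ₜ v := by
  simp [del, TensorProduct.smul_tmul']

theorem del_add (x y : P) (m : P ⊗[R] K) : del (x + y) m = del x m + del y m := by
  induction m with
  | zero => simp
  | tmul z v =>
    simp only [del_tmul, add_smul, TensorProduct.tmul_add, add_mul, TensorProduct.add_tmul]; abel
  | add a b ha hb => rw [map_add, map_add, map_add, ha, hb]; abel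

theorem del_algebraMap (r : R) (m : P ⊗[R] K) : del (algebraMap R P r) m = 0 := by
  induction m with
  | zero => simp
  | tmul z v =>
    rw [del_tmul, algebraMap_smul, TensorProduct.tmul_smul, ← Algebra.smul_def,
      TensorProduct.smul_tmul', sub_self]
  | add a b ha hb => rw [map_add, ha, hb, add_zero]

theorem del_mul (x y : P) (m : P ⊗[R] K) :
    del (x * y) m = del x (del y m) + x • del y m + y • del x m := by
  induction m with
  | zero => simp
  | tmul z v =>
    simp only [del_tmul, map_sub, smul_sub, TensorProduct.smul_tmul', smul_eq_mul, mul_smul]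
    rw [mul_comm y (x * z), mul_assoc x z y, mul_comm z y, mul_comm x (y * z), mul_assoc y z x,
      mul_comm z x, mul_assoc x y z, mul_comm x (y * z), mul_assoc y z x, mul_comm z x]
    abel
  | add a b ha hb => simp only [map_add, smul_add, ha, hb]; abel

theorem del_comm (x y : P) (m : P ⊗[R] K) : del x (del y m) = del y (del x m) := by
  have h := del_mul x y m
  rw [mul_comm, del_mul] at h
  have h' : del y (del x m) + (y • del x m + x • del y m)
      = del x (del y m) + (x • del y m + y • del x m) := by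
    rw [← add_assoc, ← add_assoc]; exact h
  rw [add_comm (y • del x m)] at h'
  exact (add_right_cancel h').symm

/-- the linear map `P ⊗[R] K →ₗ[P] N` defined by `L` -/
noncomputable def hat : (K →ₗ[R] N) ≃ₗ[P] (P ⊗[R] K →ₗ[P] N) := LinearMap.liftBaseChangeEquiv P

omit [Module P K] [IsScalarTower R P K] in
theorem hat_tmul (L : K →ₗ[R] N) (x : P) (v : K) : hat L (x ⊗ₜ[R] v) = x • L v := by
  simp [hat]

theorem hat_ad (x : P) (L : K →ₗ[R] N) (m : P ⊗[R] K) : hat (ad x L) m = - hat L (del x m) := by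
  induction m with
  | zero => simp
  | tmul z v =>
    rw [hat_tmul, ad_apply, del_tmul, map_sub, hat_tmul, hat_tmul, smul_sub, smul_smul,
      mul_comm x z, neg_sub]
  | add a b ha hb => rw [map_add, map_add, map_add, ha, hb, neg_add]

variable (R) in
/-- the submodule of `P ⊗[R] K` spanned by the `∏ (1 ⊗ xᵢ - xᵢ ⊗ 1) (1 ⊗ a)`, `c` factors, `a ∈ A` -/
noncomputable def W : (c : ℕ) → (A : Submodule P K) → Submodule P (P ⊗[R] K)
  | 0, A => Submodule.span P ((fun a => (1 : P) ⊗ₜ[R] a) '' (A : Set K))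
  | c + 1, A => ⨆ x : P, (W c A).map (del x)

theorem mem_Cond_iff (c : ℕ) (A : Submodule P K) (B : Submodule P N) (L : K →ₗ[R] N) :
    L ∈ Cond c A B ↔ W R c A ≤ B.comap (hat L) := by
  induction c generalizing L with
  | zero =>
    rw [mem_Cond_zero, W, Submodule.span_le]
    constructor
    · rintro h _ ⟨a, ha, rfl⟩
      simpa [hat_tmul] using h a ha
    · intro h a ha
      simpa [hat_tmul] using h ⟨a, ha, rfl⟩
  | succ c ih =>
    rw [mem_Cond_succ, W, iSup_le_iff]
    refine forall_congr' fun x => ?_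
    rw [ih, Submodule.map_le_iff_le_comap]
    refine ⟨fun h m hm => ?_, fun h m hm => ?_⟩
    · have := h hm
      rw [Submodule.mem_comap, hat_ad] at this
      simpa using B.neg_mem this
    · have := h hm
      rw [Submodule.mem_comap, hat_ad]
      exact B.neg_mem this

theorem W_zero_top : W R 0 (⊤ : Submodule P K) = ⊤ := by
  rw [eq_top_iff]
  intro m _
  induction m with
  | zero => exact Submodule.zero_mem _
  | tmul y v =>
    have : y ⊗ₜ[R] v = y • ((1 : P) ⊗ₜ[R] v) := by simp [TensorProduct.smul_tmul']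
    rw [this]
    exact Submodule.smul_mem _ _ (Submodule.subset_span ⟨v, trivial, rfl⟩)
  | add a b ha hb => exact Submodule.add_mem _ (ha trivial) (hb trivial)

theorem del_mem_W (c : ℕ) (A : Submodule P K) (x : P) {m : P ⊗[R] K} (hm : m ∈ W R c A) :
    del x m ∈ W R (c + 1) A :=
  (le_iSup (fun x : P => (W R c A).map (del x)) x) ⟨m, hm, rfl⟩

theorem exists_fg_W [Algebra.FiniteType R P] [Module.Finite P K] (c : ℕ) :
    ∃ F : Submodule P (P ⊗[R] K), F.FG ∧ W R c ⊤ ≤ F ⊔ W R (c + 1) ⊤ := by
  classical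
  obtain ⟨s, hs⟩ := Algebra.FiniteType.out (R := R) (A := P)
  obtain ⟨g, hg⟩ := Module.Finite.fg_top (R := P) (M := K)
  induction c with
  | zero =>
    refine ⟨Submodule.span P ((fun a => (1 : P) ⊗ₜ[R] a) '' (g : Set K)),
      Submodule.fg_span (g.finite_toSet.image _), ?_⟩
    rw [W, Submodule.span_le]
    rintro _ ⟨v, -, rfl⟩
    have hv : v ∈ Submodule.span P (g : Set K) := hg ▸ trivial
    induction hv using Submodule.span_induction with
    | mem v hv => exact Submodule.mem_sup_left (Submodule.subset_span ⟨v, hv, rfl⟩)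
    | zero => simp
    | add v w _ _ h1 h2 => 
      simp only [SetLike.mem_coe, TensorProduct.tmul_add] at h1 h2 ⊢
      exact Submodule.add_mem _ h1 h2
    | smul x v _ h => 
      have e : (1 : P) ⊗ₜ[R] (x • v) = del x ((1 : P) ⊗ₜ[R] v) + x • ((1 : P) ⊗ₜ[R] v) := by
        simp [del_tmul, TensorProduct.smul_tmul']
      simp only [SetLike.mem_coe] at h ⊢
      rw [e]
      refine Submodule.add_mem _ (Submodule.mem_sup_right (del_mem_W 0 ⊤ x ?_))
        (Submodule.smul_mem _ _ h)
      exact Submodule.subset_span ⟨v, trivial, rfl⟩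
  | succ c ih =>
    obtain ⟨F, hF, hW⟩ := ih
    refine ⟨⨆ x ∈ s, F.map (del x), Submodule.fg_biSup _ _ fun x _ => hF.map _, ?_⟩
    rw [W, iSup_le_iff]
    intro x
    have hx : x ∈ Algebra.adjoin R (s : Set P) := hs ▸ trivial
    induction hx using Algebra.adjoin_induction with
    | mem x hx => 
      refine (Submodule.map_mono hW).trans ?_
      rw [Submodule.map_sup]
      refine sup_le_sup ?_ ?_
      · exact le_iSup₂_of_le x hx le_rfl
      · exact le_iSup (fun x : P => (W R (c + 1) ⊤).map (del x)) x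
    | algebraMap r => 
      rintro _ ⟨m, -, rfl⟩
      rw [del_algebraMap]
      exact Submodule.zero_mem _
    | add x y _ _ h1 h2 => 
      rintro _ ⟨m, hm, rfl⟩
      rw [del_add]
      exact Submodule.add_mem _ (h1 ⟨m, hm, rfl⟩) (h2 ⟨m, hm, rfl⟩)
    | mul x y _ _ h1 h2 => 
      rintro _ ⟨m, hm, rfl⟩
      rw [del_mul]
      refine Submodule.add_mem _ (Submodule.add_mem _ ?_ ?_) ?_
      · exact Submodule.mem_sup_right (del_mem_W _ _ x (del_mem_W _ _ y hm))
      · exact Submodule.smul_mem _ _ (h2 ⟨m, hm, rfl⟩)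
      · exact Submodule.smul_mem _ _ (h1 ⟨m, hm, rfl⟩)

theorem exists_fg_top [Algebra.FiniteType R P] [Module.Finite P K] (k : ℕ) :
    ∃ F : Submodule P (P ⊗[R] K), F.FG ∧ ⊤ ≤ F ⊔ W R k ⊤ := by
  induction k with
  | zero => exact ⟨⊥, Submodule.fg_bot, by rw [W_zero_top]; exact le_sup_right⟩
  | succ k ih =>
    obtain ⟨F, hF, h⟩ := ih
    obtain ⟨G, hG, h'⟩ := exists_fg_W (R := R) (P := P) (K := K) k
    refine ⟨F ⊔ G, hF.sup hG, h.trans ?_⟩
    rw [sup_assoc]
    exact sup_le_sup le_rfl h'

variable (R P K) in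
/-- the module of principal parts `(P ⊗[R] K) / I ^ k` -/
abbrev PP (k : ℕ) : Type _ := (P ⊗[R] K) ⧸ W R k (⊤ : Submodule P K)

theorem finite_PP [Algebra.FiniteType R P] [Module.Finite P K] (k : ℕ) : Module.Finite P (PP R P K k) := by
  obtain ⟨F, hF, h⟩ := exists_fg_top (R := R) (P := P) (K := K) k
  refine ⟨?_⟩
  have : (⊤ : Submodule P (PP R P K k)) = F.map (W R k ⊤).mkQ := by
    refine le_antisymm ?_ le_top
    rintro q -
    obtain ⟨m, rfl⟩ := Submodule.mkQ_surjective _ q
    obtain ⟨f, hf, w, hw, rfl⟩ := Submodule.mem_sup.mp (h (Submodule.mem_top (x := m)))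
    refine ⟨f, hf, ?_⟩
    rw [map_add, (Submodule.Quotient.mk_eq_zero _).mpr hw |> fun h => (show (W R k ⊤).mkQ w = 0 from h),
      add_zero]
  rw [this]
  exact hF.map _

end Diff

end Groth.Agent.ResProp.EF.K634
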