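import Groth.Agent.ResProp.EF.K634.BC2

/-!
# Flat base change of filtered differential operators (S16912, node OPS-BC)
-/

set_option autoImplicit false

open TensorProduct

namespace Groth.Agent.ResProp.EF.K634

section One

variable {R P K N : Type*} [CommRing R] [CommRing P] [Algebra R P]
  [AddCommGroup K] [Module R K] [Module P K] [IsScalarTower R P K]
  [AddCommGroup N] [Module R N] [Module P N] [IsScalarTower R P N]

variable (R) in
/-- operators commuting with `(α, β)` -/
def Com (α : K →ₗ[P] K) (β : N →ₗ[P] N) : Submodule P (K →ₗ[R] N) where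
  carrier := {L | ∀ v, L (α v) = β (L v)}
  add_mem' := fun h h' v => by rw [LinearMap.add_apply, LinearMap.add_apply, h, h', map_add]
  zero_mem' := fun v => by simp
  smul_mem' := fun x L h v => by rw [LinearMap.smul_apply, LinearMap.smul_apply, h, map_smul]

variable (R) in
/-- the `P`-module of operators with finitely many conditions -/
def DDg (k : ℕ) {T S : Type*} (c : T → ℕ) (A : T → Submodule P K) (B : T → Submodule P N)
    (α : S → K →ₗ[P] K) (β : S → N →ₗ[P] N) : Submodule P (K →ₗ[R] N) :=
  (Cond k ⊤ ⊥ ⊓ ⨅ t, Cond (c t) (A t) (B t)) ⊓ ⨅ s, Com R (α s) (β s)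

theorem mem_DDg {k : ℕ} {T S : Type*} {c : T → ℕ} {A : T → Submodule P K} {B : T → Submodule P N}
    {α : S → K →ₗ[P] K} {β : S → N →ₗ[P] N} {L : K →ₗ[R] N} :
    L ∈ DDg R k c A B α β ↔ (L ∈ (Cond k ⊤ ⊥ : Submodule P (K →ₗ[R] N)) ∧
      ∀ t, L ∈ (Cond (c t) (A t) (B t) : Submodule P (K →ₗ[R] N))) ∧
      ∀ s v, L (α s v) = β s (L v) := by
  simp only [DDg, Submodule.mem_inf, Submodule.mem_iInf]
  rfl

variable (R P K) in
/-- the projection onto principal parts -/
noncomputable def qk (k : ℕ) : P ⊗[R] K →ₗ[P] PP R P K k := (W R k (⊤ : Submodule P K)).mkQ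

theorem qk_surjective (k : ℕ) : Function.Surjective (qk R P K k) := Submodule.mkQ_surjective _

theorem qk_eq_zero {k : ℕ} {m : P ⊗[R] K} (hm : m ∈ W R k (⊤ : Submodule P K)) : qk R P K k m = 0 :=
  (Submodule.Quotient.mk_eq_zero _).mpr hm

theorem qk_eq_zero_iff {k : ℕ} {m : P ⊗[R] K} : qk R P K k m = 0 ↔ m ∈ W R k (⊤ : Submodule P K) :=
  (Submodule.Quotient.mk_eq_zero _)

/-- the operator defined by a linear map on principal parts -/
noncomputable def toL {k : ℕ} (φ : PP R P K k →ₗ[P] N) : K →ₗ[R] N := hat.symm (φ ∘ₗ qk R P K k)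

theorem hat_toL {k : ℕ} (φ : PP R P K k →ₗ[P] N) : hat (toL φ) = φ ∘ₗ qk R P K k :=
  hat.apply_symm_apply _

theorem toL_apply {k : ℕ} (φ : PP R P K k →ₗ[P] N) (v : K) :
    toL φ v = φ (qk R P K k ((1 : P) ⊗ₜ[R] v)) := by
  have := congrArg (fun f => f ((1 : P) ⊗ₜ[R] v)) (hat_toL φ)
  simpa [hat_tmul] using this

theorem toL_injective {k : ℕ} : Function.Injective (toL : (PP R P K k →ₗ[P] N) → (K →ₗ[R] N)) := by
  intro φ ψ h
  have := congrArg (hat (R := R) (P := P) (K := K) (N := N)) h
  rw [hat_toL, hat_toL] at this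
  exact (LinearMap.cancel_right (qk_surjective k)).mp this

theorem toL_mem_Cond_top {k : ℕ} (φ : PP R P K k →ₗ[P] N) : toL φ ∈ (Cond k ⊤ ⊥ : Submodule P (K →ₗ[R] N)) := by
  rw [mem_Cond_iff, hat_toL]
  intro m hm
  rw [Submodule.mem_comap, LinearMap.comp_apply, qk_eq_zero hm, map_zero]
  exact Submodule.zero_mem _

theorem exists_toL {k : ℕ} {L : K →ₗ[R] N} (hL : L ∈ (Cond k ⊤ ⊥ : Submodule P (K →ₗ[R] N))) :
    ∃ φ : PP R P K k →ₗ[P] N, toL φ = L := by
  rw [mem_Cond_iff] at hL
  have h : W R k (⊤ : Submodule P K) ≤ (hat L).ker := fun m hm => by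
    have := hL hm
    rwa [Submodule.mem_comap, Submodule.mem_bot] at this
  refine ⟨(W R k (⊤ : Submodule P K)).liftQ (hat L) h, ?_⟩
  apply (hat (R := R) (P := P) (K := K) (N := N)).injective
  rw [hat_toL]
  exact Submodule.liftQ_mkQ _ _ h

omit [IsScalarTower R P K] in
theorem baseChange_del (α : K →ₗ[P] K) [IsScalarTower R P K] (x : P) (m : P ⊗[R] K) :
    (α.restrictScalars R).baseChange P (del x m) = del x ((α.restrictScalars R).baseChange P m) := by
  induction m with
  | zero => simp
  | tmul y v => simp [del_tmul]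
  | add a b ha hb => rw [map_add, map_add, map_add, map_add, ha, hb]

/-- `1 ⊗ α` on principal parts -/
theorem W_le_comap (α : K →ₗ[P] K) (c : ℕ) :
    W R c (⊤ : Submodule P K) ≤ (W R c (⊤ : Submodule P K)).comap ((α.restrictScalars R).baseChange P) := by
  induction c with
  | zero => rw [W_zero_top]; exact le_top
  | succ c ih =>
    intro m hm
    rw [W] at hm
    refine (iSup_le_iff.mpr ?_ : (⨆ x : P, (W R c (⊤ : Submodule P K)).map (del x)) ≤ _) hm
    rintro x _ ⟨m, hm, rfl⟩
    rw [Submodule.mem_comap, baseChange_del]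
    exact del_mem_W c ⊤ x (ih hm)

variable (R) in
/-- `1 ⊗ α` on principal parts -/
noncomputable def bar (k : ℕ) (α : K →ₗ[P] K) : PP R P K k →ₗ[P] PP R P K k :=
  Submodule.mapQ _ _ ((α.restrictScalars R).baseChange P) (W_le_comap α k)

theorem bar_qk (k : ℕ) (α : K →ₗ[P] K) (m : P ⊗[R] K) :
    bar R k α (qk R P K k m) = qk R P K k ((α.restrictScalars R).baseChange P m) := rfl

theorem toL_comm_iff {k : ℕ} (φ : PP R P K k →ₗ[P] N) (α : K →ₗ[P] K) (β : N →ₗ[P] N) :
    (∀ v, toL φ (α v) = β (toL φ v)) ↔ φ ∘ₗ bar R k α = β ∘ₗ φ := by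
  constructor
  · intro h
    refine LinearMap.ext fun q => ?_
    obtain ⟨m, rfl⟩ := qk_surjective k q
    rw [LinearMap.comp_apply, LinearMap.comp_apply, bar_qk]
    induction m with
    | zero => simp
    | tmul y v =>
      have e : y ⊗ₜ[R] v = y • ((1 : P) ⊗ₜ[R] v) := by simp [TensorProduct.smul_tmul']
      have h1 := h v
      rw [toL_apply, toL_apply] at h1
      rw [e, map_smul, map_smul, map_smul, map_smul, map_smul, map_smul, ← h1]
      simp
    | add a b ha hb => simp only [map_add, ha, hb]
  · intro h v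
    rw [toL_apply, toL_apply]
    have := LinearMap.congr_fun h (qk R P K k ((1 : P) ⊗ₜ[R] v))
    rw [LinearMap.comp_apply, LinearMap.comp_apply, bar_qk] at this
    simpa using this

section gens

variable [IsNoetherianRing P] [Algebra.FiniteType R P] [Module.Finite P K]

theorem exists_gens (k c : ℕ) (A : Submodule P K) :
    ∃ s : Finset (PP R P K k), Submodule.span P (s : Set (PP R P K k)) = (W R c A).map (qk R P K k) := by
  have := finite_PP (R := R) (P := P) (K := K) k
  exact (isNoetherian_of_isNoetherianRing_of_finite P (PP R P K k)).noetherian _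

/-- generators of the image of `W c A` in the principal parts -/
noncomputable def gens (k c : ℕ) (A : Submodule P K) : Finset (PP R P K k) := (exists_gens k c A).choose

theorem toL_Cond_iff {k : ℕ} (φ : PP R P K k →ₗ[P] N) (c : ℕ) (A : Submodule P K) (B : Submodule P N) :
    toL φ ∈ (Cond c A B : Submodule P (K →ₗ[R] N)) ↔ ∀ s : gens (R := R) k c A, φ s ∈ B := by
  rw [mem_Cond_iff, hat_toL, Submodule.comap_comp, ← Submodule.map_le_iff_le_comap,
    ← (exists_gens k c A).choose_spec, Submodule.span_le]
  constructor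
  · rintro h ⟨s, hs⟩
    exact h hs
  · intro h s hs
    exact h ⟨s, hs⟩

end gens

end One

section Two

variable {R R' P P' : Type*} [CommRing R] [CommRing R'] [CommRing P] [CommRing P']
  [Algebra R R'] [Algebra R P] [Algebra R P'] [Algebra R' P'] [Algebra P P']
  [IsScalarTower R R' P'] [IsScalarTower R P P'] [Algebra.IsPushout R R' P P']
  {K K' : Type*} [AddCommGroup K] [Module R K] [Module P K] [IsScalarTower R P K]
  [AddCommGroup K'] [Module R K'] [Module R' K'] [Module P K'] [Module P' K']
  [IsScalarTower R R' K'] [IsScalarTower R P K'] [IsScalarTower P P' K'] [IsScalarTower R' P' K']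
  {N N' : Type*} [AddCommGroup N] [Module R N] [Module P N] [IsScalarTower R P N]
  [AddCommGroup N'] [Module R N'] [Module R' N'] [Module P N'] [Module P' N']
  [IsScalarTower R R' N'] [IsScalarTower R P N'] [IsScalarTower P P' N'] [IsScalarTower R' P' N']

variable (R R') in
include R R' in
omit [Module R K] [IsScalarTower R P K] [Module R K'] [IsScalarTower R R' K'] [IsScalarTower R P K'] in
theorem smul_mem_spanR (ι : K →ₗ[P] K') (A : Submodule P K) (p : P') {x : K'}
    (hx : x ∈ Submodule.span R' (ι '' A)) : p • x ∈ Submodule.span R' (ι '' A) := by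
  have h1 : ∀ m : P, algebraMap P P' m • x ∈ Submodule.span R' (ι '' (A : Set K)) := by
    intro m
    induction hx using Submodule.span_induction with
    | mem x hx =>
      obtain ⟨a, ha, rfl⟩ := hx
      rw [algebraMap_smul, ← map_smul]
      exact Submodule.subset_span ⟨_, A.smul_mem m ha, rfl⟩
    | zero => simp
    | add x y _ _ h1 h2 => rw [smul_add]; exact Submodule.add_mem _ h1 h2
    | smul r x _ h => rw [smul_comm]; exact Submodule.smul_mem _ _ h
  refine (Algebra.IsPushout.out (R := R) (S := R') (R' := P) (S' := P')).inductionOn p _ ?_ ?_ ?_ ?_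
  · rw [zero_smul]; exact Submodule.zero_mem _
  · intro m; exact h1 m
  · intro s n hn
    rw [smul_assoc]
    exact Submodule.smul_mem _ _ hn
  · intro a b ha hb
    rw [add_smul]
    exact Submodule.add_mem _ ha hb

variable (R R') in
include R R' in
omit [Module R K] [IsScalarTower R P K] [Module R K'] [IsScalarTower R R' K'] [IsScalarTower R P K'] in
theorem mem_spanR (ι : K →ₗ[P] K') (A : Submodule P K) {x : K'}
    (hx : x ∈ Submodule.span P' (ι '' (A : Set K))) : x ∈ Submodule.span R' (ι '' (A : Set K)) := by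
  induction hx using Submodule.span_induction with
  | mem x hx => exact Submodule.subset_span hx
  | zero => exact Submodule.zero_mem _
  | add x y _ _ h1 h2 => exact Submodule.add_mem _ h1 h2
  | smul r x _ h => exact smul_mem_spanR R R' ι A r h

/-- restriction of an `R'`-linear map along `ι` -/
def res (ι : K →ₗ[P] K') (L : K' →ₗ[R'] N') : K →ₗ[R] N' :=
  (L.restrictScalars R) ∘ₗ (ι.restrictScalars R)

omit [Module P N'] [IsScalarTower R P N'] [IsScalarTower P P' N'] in
theorem res_apply (ι : K →ₗ[P] K') (L : K' →ₗ[R'] N') (v : K) : res (R := R) ι L v = L (ι v) := rfl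

theorem mem_Cond_res (ι : K →ₗ[P] K') (c : ℕ) (A : Submodule P K) (A' : Submodule P' K')
    (hA' : A' = Submodule.span P' (ι '' (A : Set K))) (B' : Submodule P' N') (L : K' →ₗ[R'] N') :
    L ∈ (Cond c A' B' : Submodule P' (K' →ₗ[R'] N')) ↔
      res (R := R) ι L ∈ (Cond c A (B'.restrictScalars P) : Submodule P (K →ₗ[R] N')) := by
  subst hA'
  induction c generalizing L with
  | zero =>
    rw [mem_Cond_zero, mem_Cond_zero]
    constructor
    · intro h a ha
      exact h _ (Submodule.subset_span ⟨a, ha, rfl⟩)
    · intro h x hx0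
      have hx := mem_spanR R R' ι A hx0
      clear hx0
      induction hx using Submodule.span_induction with
      | mem x hx => obtain ⟨a, ha, rfl⟩ := hx; exact h a ha
      | zero => rw [map_zero]; exact B'.zero_mem
      | add x y _ _ h1 h2 => rw [map_add]; exact B'.add_mem (h1) (h2)
      | smul r x _ h => 
        rw [map_smul, ← algebraMap_smul P' r]
        exact B'.smul_mem _ h
  | succ c ih =>
    rw [mem_Cond_succ, mem_Cond_succ]
    have key : ∀ x : P, res (R := R) ι (ad (algebraMap P P' x) L) = ad x (res (R := R) ι L) := by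
      intro x
      ext v
      rw [res_apply, ad_apply, ad_apply, res_apply, res_apply, algebraMap_smul, algebraMap_smul,
        ι.map_smul x v]
    constructor
    · intro h x
      rw [← key, ← ih]
      exact h _
    · intro h x'
      refine (Algebra.IsPushout.out (R := R) (S := R') (R' := P) (S' := P')).inductionOn x' _ ?_ ?_ ?_ ?_
      · have : ad (0 : P') L = 0 := by ext v; simp
        rw [this]; exact Submodule.zero_mem _
      · intro m
        rw [ih]
        exact (key m).symm ▸ h m
      · intro s n hn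
        have : ad (s • n) L = algebraMap R' P' s • ad n L := by
          ext v
          rw [ad_apply, LinearMap.smul_apply, ad_apply, smul_assoc, smul_assoc, map_smul,
            algebraMap_smul, smul_sub]
        rw [this]
        exact Submodule.smul_mem _ _ hn
      · intro a b ha hb
        have : ad (a + b) L = ad a L + ad b L := by
          ext v
          rw [LinearMap.add_apply, ad_apply, ad_apply, ad_apply, add_smul, add_smul, map_add]
          abel
        rw [this]
        exact Submodule.add_mem _ ha hb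

theorem DDg_res (ι : K →ₗ[P] K') (hι : IsBaseChange P' ι) (k : ℕ) {T S : Type*} (c : T → ℕ)
    (A : T → Submodule P K) (A' : T → Submodule P' K')
    (hA' : ∀ t, A' t = Submodule.span P' (ι '' (A t : Set K))) (B' : T → Submodule P' N')
    (α : S → K →ₗ[P] K) (α' : S → K' →ₗ[P'] K') (hα : ∀ s v, α' s (ι v) = ι (α s v))
    (β' : S → N' →ₗ[P'] N') (L : K' →ₗ[R'] N') :
    L ∈ DDg R' k c A' B' α' β' ↔
      res (R := R) ι L ∈ DDg R k c A (fun t => (B' t).restrictScalars P) α
        (fun s => (β' s).restrictScalars P) := by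
  rw [mem_DDg, mem_DDg]
  refine and_congr (and_congr ?_ (forall_congr' fun t => ?_)) (forall_congr' fun s => ?_)
  · rw [mem_Cond_res (R := R) ι k ⊤ ⊤ ?_ ⊥ L]
    · rfl
    · symm
      rw [eq_top_iff]
      rintro x -
      refine hι.inductionOn x _ (Submodule.zero_mem _) (fun m => Submodule.subset_span ⟨m, trivial, rfl⟩)
        (fun s n hn => Submodule.smul_mem _ _ hn) fun a b ha hb => Submodule.add_mem _ ha hb
  · rw [mem_Cond_res (R := R) ι (c t) (A t) (A' t) (hA' t) (B' t) L]
  · constructor
    · intro h v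
      rw [res_apply, res_apply, ← hα]
      exact h _
    · intro h v'
      have h' : L ∘ₗ (α' s).restrictScalars R' = (β' s).restrictScalars R' ∘ₗ L := by
        refine ((isBaseChange_iff_restrict (R := R) (R' := R') ι).mp hι).algHom_ext _ _ fun v => ?_
        have := h v
        rw [res_apply, res_apply, ← hα] at this
        exact this
      exact LinearMap.congr_fun h' v'

end Two

end Groth.Agent.ResProp.EF.K634
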