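import Groth.Agent.ResProp.EF.K634.OpsBC
import Mathlib.RingTheory.Flat.Stability

/-!
# Flat base change of filtered differential operators: main theorem (S16912, node OPS-BC)
-/

set_option autoImplicit false

open TensorProduct

namespace Groth.Agent.ResProp.EF.K634

section GG

variable {P P' : Type*} [CommRing P] [CommRing P'] [Algebra P P']
  {Q N' : Type*} [AddCommGroup Q] [Module P Q]
  [AddCommGroup N'] [Module P N'] [Module P' N'] [IsScalarTower P P' N']

/-- evaluation, linear over the bigger ring -/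
def evl (P' : Type*) [CommRing P'] [Algebra P P'] [Module P' N'] [IsScalarTower P P' N'] (q : Q) :
    (Q →ₗ[P] N') →ₗ[P'] N' where
  toFun φ := φ q
  map_add' _ _ := rfl
  map_smul' _ _ := rfl

@[simp] theorem evl_apply (q : Q) (φ : Q →ₗ[P] N') : evl P' q φ = φ q := rfl

/-- postcomposition, linear over the bigger ring -/
def postl (β : N' →ₗ[P'] N') : (Q →ₗ[P] N') →ₗ[P'] (Q →ₗ[P] N') where
  toFun φ := (β.restrictScalars P) ∘ₗ φ
  map_add' φ ψ := by ext; simp
  map_smul' a φ := by ext; simp

@[simp] theorem postl_apply (β : N' →ₗ[P'] N') (φ : Q →ₗ[P] N') (q : Q) : postl β φ q = β (φ q) := rfl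

/-- the linear map whose kernel is the module of operators -/
def GG {T S : Type*} (s : T → Finset Q) (B : T → Submodule P' N') (a : S → Q →ₗ[P] Q)
    (β : S → N' →ₗ[P'] N') :
    (Q →ₗ[P] N') →ₗ[P'] (((t : T) → (s t → N' ⧸ B t)) × (S → (Q →ₗ[P] N'))) :=
  LinearMap.prod (LinearMap.pi fun t => LinearMap.pi fun q => (B t).mkQ ∘ₗ evl P' (q : Q))
    (LinearMap.pi fun i => pre P' (a i) - postl (β i))

theorem GG_eq_zero_iff {T S : Type*} (s : T → Finset Q) (B : T → Submodule P' N') (a : S → Q →ₗ[P] Q)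
    (β : S → N' →ₗ[P'] N') (φ : Q →ₗ[P] N') :
    GG s B a β φ = 0 ↔ (∀ t, ∀ q : s t, φ q ∈ B t) ∧ ∀ i, φ ∘ₗ a i = (β i).restrictScalars P ∘ₗ φ := by
  have h : GG s B a β φ = 0 ↔ (∀ t, ∀ q : s t, (B t).mkQ (φ q) = 0) ∧
      ∀ i, pre P' (a i) φ - postl (β i) φ = 0 := by
    rw [Prod.ext_iff]
    constructor
    · rintro ⟨h1, h2⟩
      exact ⟨fun t q => congrFun (congrFun h1 t) q, fun i => congrFun h2 i⟩
    · rintro ⟨h1, h2⟩
      exact ⟨funext fun t => funext fun q => h1 t q, funext fun i => h2 i⟩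
  rw [h]
  refine and_congr (forall_congr' fun t => forall_congr' fun q => ?_) (forall_congr' fun i => ?_)
  · exact Submodule.Quotient.mk_eq_zero _
  · rw [sub_eq_zero]; rfl

end GG

section Main

variable {R R' P P' : Type*} [CommRing R] [CommRing R'] [CommRing P] [CommRing P']
  [Algebra R R'] [Algebra R P] [Algebra R P'] [Algebra R' P'] [Algebra P P']
  [IsScalarTower R R' P'] [IsScalarTower R P P'] [Algebra.IsPushout R R' P P']
  {K K' : Type*} [AddCommGroup K] [Module R K] [Module P K] [IsScalarTower R P K]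
  [AddCommGroup K'] [Module R K'] [Module R' K'] [Module P K'] [Module P' K']
  [IsScalarTower R R' K'] [IsScalarTower R P K'] [IsScalarTower P P' K'] [IsScalarTower R' P' K']
  {N N' : Type*} [AddCommGroup N] [Module R N] [Module P N] [IsScalarTower R P N]
  [AddCommGroup N'] [Module R N'] [Module R' N'] [Module P N'] [Module P' N']
  [IsScalarTower R R' N'] [IsScalarTower R P N'] [IsScalarTower P P' N'] [IsScalarTower R' P' N']

theorem comp_mem_Cond (κ : N →ₗ[P] N') (c : ℕ) (A : Submodule P K) (B : Submodule P N)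
    (B' : Submodule P N') (h : ∀ n ∈ B, κ n ∈ B') (L : K →ₗ[R] N)
    (hL : L ∈ (Cond c A B : Submodule P (K →ₗ[R] N))) :
    (κ.restrictScalars R) ∘ₗ L ∈ (Cond c A B' : Submodule P (K →ₗ[R] N')) := by
  induction c generalizing L with
  | zero => intro a ha; exact h _ (hL a ha)
  | succ c ih =>
    rw [mem_Cond_succ] at hL ⊢
    intro x
    have : ad x ((κ.restrictScalars R) ∘ₗ L) = (κ.restrictScalars R) ∘ₗ ad x L := by
      ext v
      simp
    rw [this]
    exact ih _ (hL x)

/-- extension of an operator to the base change -/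
noncomputable def extL {ι : K →ₗ[P] K'} (hι : IsBaseChange P' ι) (κ : N →ₗ[P] N') (L : K →ₗ[R] N) :
    K' →ₗ[R'] N' :=
  ((isBaseChange_iff_restrict (R := R) (R' := R') ι).mp hι).lift ((κ.restrictScalars R) ∘ₗ L)

theorem extL_apply {ι : K →ₗ[P] K'} (hι : IsBaseChange P' ι) (κ : N →ₗ[P] N') (L : K →ₗ[R] N) (v : K) :
    (extL hι κ L : K' →ₗ[R'] N') (ι v) = κ (L v) :=
  ((isBaseChange_iff_restrict (R := R) (R' := R') ι).mp hι).lift_eq _ v

theorem res_extL {ι : K →ₗ[P] K'} (hι : IsBaseChange P' ι) (κ : N →ₗ[P] N') (L : K →ₗ[R] N) :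
    res ι (extL hι κ L : K' →ₗ[R'] N') = (κ.restrictScalars R) ∘ₗ L := by
  ext v; exact extL_apply hι κ L v

theorem res_injective {ι : K →ₗ[P] K'} (hι : IsBaseChange P' ι) {L M : K' →ₗ[R'] N'}
    (h : res (R := R) ι L = res (R := R) ι M) : L = M :=
  ((isBaseChange_iff_restrict (R := R) (R' := R') ι).mp hι).algHom_ext _ _ fun v =>
    LinearMap.congr_fun h v

theorem exists_res {ι : K →ₗ[P] K'} (hι : IsBaseChange P' ι) (L : K →ₗ[R] N') :
    ∃ M : K' →ₗ[R'] N', res (R := R) ι M = L :=
  ⟨((isBaseChange_iff_restrict (R := R) (R' := R') ι).mp hι).lift L, by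
    ext v; exact ((isBaseChange_iff_restrict (R := R) (R' := R') ι).mp hι).lift_eq L v⟩

/-- data for the main theorem: finitely many conditions over `P` and over `P'` -/
structure Dat {T S : Type*} (ι : K →ₗ[P] K') (κ : N →ₗ[P] N')
    (A : T → Submodule P K) (B : T → Submodule P N) (α : S → K →ₗ[P] K) (β : S → N →ₗ[P] N)
    (A' : T → Submodule P' K') (B' : T → Submodule P' N') (α' : S → K' →ₗ[P'] K') (β' : S → N' →ₗ[P'] N') :
    Prop where
  hι : IsBaseChange P' ι
  hκ : IsBaseChange P' κ
  hA : ∀ t, A' t = Submodule.span P' (ι '' (A t : Set K))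
  hB : ∀ t, B' t = Submodule.span P' (κ '' (B t : Set N))
  hα : ∀ s v, α' s (ι v) = ι (α s v)
  hβ : ∀ s n, β' s (κ n) = κ (β s n)

variable {T S : Type*} {ι : K →ₗ[P] K'} {κ : N →ₗ[P] N'}
    {A : T → Submodule P K} {B : T → Submodule P N} {α : S → K →ₗ[P] K} {β : S → N →ₗ[P] N}
    {A' : T → Submodule P' K'} {B' : T → Submodule P' N'} {α' : S → K' →ₗ[P'] K'} {β' : S → N' →ₗ[P'] N'}
    (D : Dat ι κ A B α β A' B' α' β') (k : ℕ) (c : T → ℕ)

include D in
theorem extL_mem {L : K →ₗ[R] N} (hL : L ∈ DDg R k c A B α β) :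
    extL D.hι κ L ∈ DDg R' k c A' B' α' β' := by
  rw [DDg_res (R := R) ι D.hι k c A A' D.hA B' α α' D.hα β', res_extL]
  rw [mem_DDg] at hL ⊢
  refine ⟨⟨?_, fun t => ?_⟩, fun s v => ?_⟩
  · exact comp_mem_Cond κ k ⊤ ⊥ ⊥ (fun n hn => by rw [(Submodule.mem_bot P).mp hn, map_zero]; exact Submodule.zero_mem _) L hL.1.1
  · refine comp_mem_Cond κ _ _ _ _ (fun n hn => ?_) L (hL.1.2 t)
    rw [D.hB]
    exact Submodule.subset_span ⟨n, hn, rfl⟩
  · have := hL.2 s v
    change κ (L (α s v)) = β' s (κ (L v))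
    rw [this, D.hβ]

variable [SMulCommClass R' P N']

/-- the extension map on the modules of operators -/
noncomputable def extD : DDg R k c A B α β →ₗ[P] DDg R' k c A' B' α' β' where
  toFun L := ⟨extL D.hι κ L.1, extL_mem D k c L.2⟩
  map_add' L M := by
    apply Subtype.ext
    apply res_injective (R := R) D.hι
    ext v
    change (extL D.hι κ (L.1 + M.1) : K' →ₗ[R'] N') (ι v) =
      (extL D.hι κ L.1 : K' →ₗ[R'] N') (ι v) + (extL D.hι κ M.1 : K' →ₗ[R'] N') (ι v)
    simp [extL_apply]
  map_smul' x L := by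
    apply Subtype.ext
    apply res_injective (R := R) D.hι
    ext v
    change (extL D.hι κ (x • L.1) : K' →ₗ[R'] N') (ι v) = x • (extL D.hι κ L.1 : K' →ₗ[R'] N') (ι v)
    simp [extL_apply]

theorem extD_apply (L : DDg R k c A B α β) (v : K) :
    (extD (R := R) (R' := R') D k c L).1 (ι v) = κ (L.1 v) := extL_apply D.hι κ L.1 v

/-- the linear map on principal parts defined by an operator -/
theorem exists_ofL (P' : Type*) [CommRing P'] [Algebra P P'] [Module P' N'] [IsScalarTower P P' N']
    (X : Type*) [AddCommGroup X] [Module P' X] (r : X →+ (K →ₗ[R] N'))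
    (hr : ∀ (p : P') x v, r (p • x) v = p • r x v)
    (hX : ∀ x, r x ∈ (Cond k ⊤ ⊥ : Submodule P (K →ₗ[R] N'))) :
    ∃ f : X →ₗ[P'] (PP R P K k →ₗ[P] N'), ∀ x, toL (f x) = r x := by
  choose f hf using fun x => exists_toL (hX x)
  refine ⟨{ toFun := f, map_add' := fun x y => toL_injective ?_, map_smul' := fun p x => toL_injective ?_ }, hf⟩
  · rw [hf, map_add]
    ext v
    rw [LinearMap.add_apply, ← hf, ← hf, toL_apply, toL_apply, toL_apply, LinearMap.add_apply]
  · rw [hf]
    ext v
    rw [hr, ← hf, RingHom.id_apply, toL_apply, toL_apply, LinearMap.smul_apply]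

include D in
/-- MAIN THEOREM: the module of operators commutes with flat base change -/
theorem isBaseChange_extD [IsNoetherianRing P] [Algebra.FiniteType R P] [Module.Finite P K]
    [Module.Flat P P'] [Finite T] [Finite S] : IsBaseChange P' (extD D k c (R := R) (R' := R')) := by
  have := finite_PP (R := R) (P := P) (K := K) k
  have : Module.FinitePresentation P (PP R P K k) := Module.finitePresentation_of_finite P _
  obtain ⟨f, hf⟩ := exists_ofL (R := R) (K := K) (N' := N) k P (DDg R k c A B α β)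
    (DDg R k c A B α β).subtype.toAddMonoidHom (fun p x v => rfl) (fun x => (mem_DDg.mp x.2).1.1)
  let r' : DDg R' k c A' B' α' β' →+ (K →ₗ[R] N') :=
    { toFun := fun L => res ι L.1
      map_zero' := rfl
      map_add' := fun _ _ => rfl }
  obtain ⟨f', hf'⟩ := exists_ofL (R := R) (K := K) (N' := N') k P' (DDg R' k c A' B' α' β') r'
    (fun p x v => rfl) (fun x => by
      have := x.2
      rw [DDg_res (R := R) ι D.hι k c A A' D.hA B' α α' D.hα β'] at this
      exact (mem_DDg.mp this).1.1)
  have key : ∀ φ : PP R P K k →ₗ[P] N, GG (P' := P) (fun t => gens (R := R) k (c t) (A t)) B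
      (fun s => bar R k (α s)) β φ = 0 ↔ toL φ ∈ DDg R k c A B α β := by
    intro φ
    rw [GG_eq_zero_iff, mem_DDg]
    refine and_congr ⟨fun h => ⟨toL_mem_Cond_top φ, fun t => (toL_Cond_iff φ _ _ _).mpr (h t)⟩,
      fun h t => (toL_Cond_iff φ _ _ _).mp (h.2 t)⟩ (forall_congr' fun s => ?_)
    exact (toL_comm_iff φ (α s) (β s)).symm
  have key' : ∀ φ : PP R P K k →ₗ[P] N', GG (P' := P') (fun t => gens (R := R) k (c t) (A t)) B'
      (fun s => bar R k (α s)) β' φ = 0 ↔ toL φ ∈ DDg R k c A (fun t => (B' t).restrictScalars P) α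
        (fun s => (β' s).restrictScalars P) := by
    intro φ
    rw [GG_eq_zero_iff, mem_DDg]
    refine and_congr ⟨fun h => ⟨toL_mem_Cond_top φ, fun t => (toL_Cond_iff φ _ _ _).mpr (h t)⟩,
      fun h t => (toL_Cond_iff φ _ _ _).mp (h.2 t)⟩ (forall_congr' fun s => ?_)
    exact (toL_comm_iff φ (α s) ((β' s).restrictScalars P)).symm
  have hq : ∀ t, B t ≤ LinearMap.ker (((B' t).mkQ.restrictScalars P) ∘ₗ κ) := by
    intro t n hn
    rw [LinearMap.mem_ker]
    refine (Submodule.Quotient.mk_eq_zero _).mpr ?_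
    rw [D.hB]
    exact Submodule.subset_span ⟨n, hn, rfl⟩
  refine IsBaseChange.of_left_exact P' (f := f) (f' := f')
    (g := GG (P' := P) (fun t => gens (R := R) k (c t) (A t)) B (fun s => bar R k (α s)) β)
    (g' := GG (P' := P') (fun t => gens (R := R) k (c t) (A t)) B' (fun s => bar R k (α s)) β')
    (extD (R := R) (R' := R') D k c) (post (PP R P K k) κ)
    (LinearMap.prodMap
      (LinearMap.pi fun t => (LinearMap.pi fun q : gens (R := R) k (c t) (A t) =>
        ((B t).liftQ (((B' t).mkQ.restrictScalars P) ∘ₗ κ) (hq t)) ∘ₗ LinearMap.proj q) ∘ₗ LinearMap.proj t)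
      (LinearMap.pi fun s : S => (post (PP R P K k) κ) ∘ₗ LinearMap.proj s))
    ?_ ?_ (isBaseChange_post D.hκ _) ?_ ?_ ?_ ?_ ?_
  · refine LinearMap.ext fun L => toL_injective ?_
    ext v
    change toL (post _ κ (f L)) v = toL (f' (extD D k c L)) v
    rw [hf', toL_apply, post_apply, ← toL_apply, hf]
    exact (extD_apply D k c L v).symm
  · refine LinearMap.ext fun φ => ?_
    refine Prod.ext (funext fun t => funext fun q => rfl) (funext fun s => ?_)
    refine LinearMap.ext fun x => ?_
    change κ (φ (bar R k (α s) x) - β s (φ x)) = κ (φ (bar R k (α s) x)) - β' s (κ (φ x))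
    rw [map_sub, D.hβ]
  · refine IsBaseChange.prodMap _ _ ?_ ?_
    · exact IsBaseChange.pi _ fun t => IsBaseChange.pi _ fun q =>
        isBaseChange_quot D.hκ (B t) (B' t) (D.hB t) (hq t)
    · exact IsBaseChange.pi _ fun s => isBaseChange_post D.hκ _
  · intro φ
    rw [key]
    constructor
    · intro h
      exact ⟨⟨_, h⟩, toL_injective (hf _)⟩
    · rintro ⟨L, rfl⟩
      rw [hf]
      exact L.2
  · intro L M h
    have := congrArg toL h
    rw [hf, hf] at this
    exact Subtype.ext this
  · intro φ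
    rw [key']
    constructor
    · intro h
      obtain ⟨M, hM⟩ := exists_res (R' := R') D.hι (toL φ)
      rw [← hM] at h
      refine ⟨⟨M, (DDg_res (R := R) ι D.hι k c A A' D.hA B' α α' D.hα β' M).mpr h⟩, toL_injective ?_⟩
      rw [hf']
      exact hM
    · rintro ⟨L, rfl⟩
      rw [hf']
      exact (DDg_res (R := R) ι D.hι k c A A' D.hA B' α α' D.hα β' L.1).mp L.2
  · intro L M h
    have := congrArg toL h
    rw [hf', hf'] at this
    exact Subtype.ext (res_injective (R := R) D.hι this)

end Main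

section Fin

variable {R R' P P' : Type*} [CommRing R] [CommRing R'] [CommRing P] [CommRing P']
  [Algebra R R'] [Algebra R P] [Algebra R P'] [Algebra R' P'] [Algebra P P']
  [IsScalarTower R R' P'] [IsScalarTower R P P'] [Algebra.IsPushout R R' P P']
  {K K' : Type*} [AddCommGroup K] [Module R K] [Module P K] [IsScalarTower R P K]
  [AddCommGroup K'] [Module R K'] [Module R' K'] [Module P K'] [Module P' K']
  [IsScalarTower R R' K'] [IsScalarTower R P K'] [IsScalarTower P P' K'] [IsScalarTower R' P' K']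
  {N N' : Type*} [AddCommGroup N] [Module R N] [Module P N] [IsScalarTower R P N]
  [AddCommGroup N'] [Module R N'] [Module R' N'] [Module P N'] [Module P' N']
  [IsScalarTower R R' N'] [IsScalarTower R P N'] [IsScalarTower P P' N'] [IsScalarTower R' P' N']
  {T S : Type*} {ι : K →ₗ[P] K'} {κ : N →ₗ[P] N'}
    {A : T → Submodule P K} {B : T → Submodule P N} {α : S → K →ₗ[P] K} {β : S → N →ₗ[P] N}
    {A' : T → Submodule P' K'} {B' : T → Submodule P' N'} {α' : S → K' →ₗ[P'] K'} {β' : S → N' →ₗ[P'] N'}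
    (D : Dat ι κ A B α β A' B' α' β') (k : ℕ) (c : T → ℕ)

variable (R R' P P') in
include R R' in
theorem flat_of_pushout [Module.Flat R R'] : Module.Flat P P' := by
  have h : IsBaseChange P (IsScalarTower.toAlgHom R R' P').toLinearMap :=
    (Algebra.IsPushout.symm (R := R) (S := R') (R' := P) (S' := P') inferInstance).out
  exact Module.Flat.isBaseChange R P R' P' h

section

variable [SMulCommClass R' P N'] [IsScalarTower R P' N']

include D in
/-- MAIN THEOREM, second form: over a Noetherian `R`, for `P` of finite type over `R` and `K` finite over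
`P`, the module of operators commutes with flat base change `R → R'`. -/
theorem isBaseChange_extD_restrict [IsNoetherianRing R] [Algebra.FiniteType R P] [Module.Finite P K]
    [Module.Flat R R'] [Finite T] [Finite S] :
    IsBaseChange R' ((extD (R := R) (R' := R') D k c).restrictScalars R) := by
  have := flat_of_pushout R R' P P'
  have := Algebra.FiniteType.isNoetherianRing R P
  have h := isBaseChange_extD (R := R) (R' := R') D k c
  exact (isBaseChange_iff_restrict (R := R) (R' := R') (extD (R := R) (R' := R') D k c)).mp h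

end

include D in
/-- every operator over `R'` is an `R'`-combination of extensions -/
theorem mem_span_extL [IsNoetherianRing R] [Algebra.FiniteType R P] [Module.Finite P K]
    [Module.Flat R R'] [Finite T] [Finite S] {M : K' →ₗ[R'] N'} (hM : M ∈ DDg R' k c A' B' α' β') :
    M ∈ Submodule.span R' ((fun L : K →ₗ[R] N => (extL D.hι κ L : K' →ₗ[R'] N')) ''
      (DDg R k c A B α β : Set (K →ₗ[R] N))) := by
  have : SMulCommClass R' P N' := ⟨fun r p n => by
    rw [← algebraMap_smul P' r, ← algebraMap_smul P' p, smul_smul, mul_comm, ← smul_smul,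
      algebraMap_smul, algebraMap_smul]⟩
  have : IsScalarTower R P' N' := ⟨fun r p n => by
    rw [← algebraMap_smul R' r, smul_assoc, algebraMap_smul]⟩
  have h := isBaseChange_extD_restrict (R := R) (R' := R') D k c
  have key : ∀ x : DDg R' k c A' B' α' β', (x : K' →ₗ[R'] N') ∈
      Submodule.span R' ((fun L : K →ₗ[R] N => (extL D.hι κ L : K' →ₗ[R'] N')) ''
      (DDg R k c A B α β : Set (K →ₗ[R] N))) := by
    intro x
    refine h.inductionOn x _ (Submodule.zero_mem _)
      (fun L => Submodule.subset_span ⟨L.1, L.2, rfl⟩) (fun s n hn => ?_) fun a b ha hb => ?_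
    · have : ((s • n : DDg R' k c A' B' α' β') : K' →ₗ[R'] N') = s • (n : K' →ₗ[R'] N') := rfl
      rw [this]
      exact Submodule.smul_mem _ _ hn
    · exact Submodule.add_mem _ ha hb
  exact key ⟨M, hM⟩

include D in
/-- relations between extensions come from relations -/
theorem tmul_eq_zero_of_extL [IsNoetherianRing R] [Algebra.FiniteType R P] [Module.Finite P K]
    [Module.Flat R R'] [Finite T] [Finite S] {J : Type*} (s : Finset J) (r : J → R')
    (L : J → DDg R k c A B α β)
    (h0 : ∑ j ∈ s, r j • (extL D.hι κ (L j).1 : K' →ₗ[R'] N') = 0) :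
    ∑ j ∈ s, r j ⊗ₜ[R] L j = 0 := by
  have : SMulCommClass R' P N' := ⟨fun r p n => by
    rw [← algebraMap_smul P' r, ← algebraMap_smul P' p, smul_smul, mul_comm, ← smul_smul,
      algebraMap_smul, algebraMap_smul]⟩
  have : IsScalarTower R P' N' := ⟨fun r p n => by
    rw [← algebraMap_smul R' r, smul_assoc, algebraMap_smul]⟩
  have h := isBaseChange_extD_restrict (R := R) (R' := R') D k c
  apply h.equiv.injective
  rw [map_zero, map_sum]
  apply Subtype.ext
  rw [Submodule.coe_sum, Submodule.coe_zero, ← h0]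
  rfl

end Fin

end Groth.Agent.ResProp.EF.K634
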